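import Groth.Prelude.Def_DiffOp
import Mathlib.RingTheory.Kaehler.Basic
import Mathlib.Algebra.BigOperators.Group.Finset.Powerset

/-! Basic calculus of differential operators: closure properties, composition, the alternating-sum
criterion and the criterion through powers of the diagonal ideal. -/

set_option autoImplicit false
set_option linter.unusedSectionVars false

namespace Groth.Agent.H06DiffOp

open Diff16
open scoped TensorProduct

universe u v

variable {A B : Type u} [CommRing A] [CommRing B] [Algebra A B]
variable {M N P : Type v} [AddCommGroup M] [Module A M] [Module B M] [IsScalarTower A B M]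
  [AddCommGroup N] [Module A N] [Module B N] [IsScalarTower A B N]
  [AddCommGroup P] [Module A P] [Module B P] [IsScalarTower A B P]

local notation "Le" => IsDiffOpLE A B _ _

@[simp]
theorem comm_apply (D : M →ₗ[A] N) (b : B) (m : M) :
    commutator A B M N D b m = D (b • m) - b • D m := rfl

theorem diffOp_zero (n : ℕ) : IsDiffOpLE A B M N n (0 : M →ₗ[A] N) := by
  induction n with
  | zero => intro b m; simp
  | succ n ih =>
    intro b
    have : commutator A B M N (0 : M →ₗ[A] N) b = 0 := by ext m; simp
    rw [this]; exact ih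

theorem diffOp_add (n : ℕ) {D E : M →ₗ[A] N} (hD : IsDiffOpLE A B M N n D)
    (hE : IsDiffOpLE A B M N n E) : IsDiffOpLE A B M N n (D + E) := by
  induction n generalizing D E with
  | zero => intro b m; simp [hD b m, hE b m]
  | succ n ih =>
    intro b
    have : commutator A B M N (D + E) b = commutator A B M N D b + commutator A B M N E b := by
      ext m; simp; abel
    rw [this]; exact ih (hD b) (hE b)

theorem diffOp_neg (n : ℕ) {D : M →ₗ[A] N} (hD : IsDiffOpLE A B M N n D) :
    IsDiffOpLE A B M N n (-D) := by
  induction n generalizing D with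
  | zero => intro b m; simp [hD b m]
  | succ n ih =>
    intro b
    have : commutator A B M N (-D) b = -commutator A B M N D b := by
      ext m; simp; abel
    rw [this]; exact ih (hD b)

theorem diffOp_sub (n : ℕ) {D E : M →ₗ[A] N} (hD : IsDiffOpLE A B M N n D)
    (hE : IsDiffOpLE A B M N n E) : IsDiffOpLE A B M N n (D - E) := by
  rw [sub_eq_add_neg]; exact diffOp_add n hD (diffOp_neg n hE)

theorem diffOp_zero_iff {D : M →ₗ[A] N} :
    IsDiffOpLE A B M N 0 D ↔ ∀ b : B, commutator A B M N D b = 0 :=
  ⟨fun h b => by ext m; simp [h b m],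
    fun h b m => by have := LinearMap.congr_fun (h b) m; simpa [sub_eq_zero] using this⟩

theorem diffOp_succ {n : ℕ} {D : M →ₗ[A] N} (hD : IsDiffOpLE A B M N n D) :
    IsDiffOpLE A B M N (n + 1) D := by
  induction n generalizing D with
  | zero =>
    intro b
    rw [diffOp_zero_iff.1 hD b]; exact diffOp_zero 0
  | succ n ih =>
    intro b
    exact ih (hD b)

theorem diffOp_mono {n m : ℕ} (h : n ≤ m) {D : M →ₗ[A] N} (hD : IsDiffOpLE A B M N n D) :
    IsDiffOpLE A B M N m D := by
  induction h with
  | refl => exact hD
  | step _ ih => exact diffOp_succ ih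

theorem diffOp_linear (f : M →ₗ[B] N) : IsDiffOpLE A B M N 0 (f.restrictScalars A) :=
  fun b m => f.map_smul b m

theorem comm_comp (D : M →ₗ[A] N) (D' : N →ₗ[A] P) (b : B) :
    commutator A B M P (D' ∘ₗ D) b =
      commutator A B N P D' b ∘ₗ D + D' ∘ₗ commutator A B M N D b := by
  ext m; simp

theorem diffOp_comp {n n' : ℕ} {D : M →ₗ[A] N} {D' : N →ₗ[A] P}
    (hD : IsDiffOpLE A B M N n D) (hD' : IsDiffOpLE A B N P n' D') :
    IsDiffOpLE A B M P (n + n') (D' ∘ₗ D) := by
  induction hk : n + n' generalizing n n' D D' with
  | zero =>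
    obtain ⟨rfl, rfl⟩ : n = 0 ∧ n' = 0 := by omega
    intro b m; simp [hD b m, hD' b (D m)]
  | succ k ih =>
    intro b
    rw [comm_comp]
    refine diffOp_add k ?_ ?_
    · cases n' with
      | zero =>
        rw [diffOp_zero_iff.1 hD' b, LinearMap.zero_comp]; exact diffOp_zero k
      | succ n' => exact ih hD (hD' b) (by omega)
    · cases n with
      | zero =>
        rw [diffOp_zero_iff.1 hD b, LinearMap.comp_zero]; exact diffOp_zero k
      | succ n => exact ih (hD b) hD' (by omega)

theorem diffOp_linear_comp {n : ℕ} (f : N →ₗ[B] P) {D : M →ₗ[A] N} (hD : IsDiffOpLE A B M N n D) :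
    IsDiffOpLE A B M P n (f.restrictScalars A ∘ₗ D) := by
  simpa using diffOp_comp hD (diffOp_linear (A := A) f)

theorem diffOp_comp_linear {n : ℕ} {D : N →ₗ[A] P} (hD : IsDiffOpLE A B N P n D) (f : M →ₗ[B] N) :
    IsDiffOpLE A B M P n (D ∘ₗ f.restrictScalars A) := by
  simpa using diffOp_comp (diffOp_linear (A := A) f) hD

/-- The scalars whose commutator has order at most `n` form a subalgebra. -/
theorem diffOp_succ_of_generators {n : ℕ} {D : M →ₗ[A] N} (s : Set B)
    (hs : Algebra.adjoin A s = ⊤)
    (h : ∀ g ∈ s, IsDiffOpLE A B M N n (commutator A B M N D g)) :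
    IsDiffOpLE A B M N (n + 1) D := by
  intro b
  have hb : b ∈ Algebra.adjoin A s := by rw [hs]; trivial
  induction hb using Algebra.adjoin_induction with
  | mem x hx => exact h x hx
  | algebraMap a =>
    have : commutator A B M N D (algebraMap A B a) = 0 := by
      ext m; simp [algebraMap_smul]
    rw [this]; exact diffOp_zero n
  | add x y _ _ hx hy =>
    have : commutator A B M N D (x + y) = commutator A B M N D x + commutator A B M N D y := by
      ext m; simp [add_smul]; abel
    rw [this]; exact diffOp_add n hx hy
  | mul x y _ _ hx hy =>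
    have : commutator A B M N D (x * y) =
        commutator A B M N D x ∘ₗ (LinearMap.lsmul B M y).restrictScalars A +
          (LinearMap.lsmul B N x).restrictScalars A ∘ₗ commutator A B M N D y := by
      ext m; simp [mul_smul, smul_sub]
    rw [this]
    exact diffOp_add n (diffOp_comp_linear hx _) (diffOp_linear_comp _ hy)

/-! ### The alternating sum -/

section AltSum

variable {ι : Type*} [DecidableEq ι]

/-- The alternating sum attached to a finite family of scalars. -/
noncomputable def altSum (D : M →ₗ[A] N) (s : Finset ι) (b : ι → B) (t : M) : N :=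
  ∑ H ∈ s.powerset, ((-1 : ℤ) ^ H.card) • ((∏ i ∈ H, b i) • D ((∏ i ∈ s \ H, b i) • t))

theorem altSum_empty (D : M →ₗ[A] N) (b : ι → B) (t : M) : altSum D ∅ b t = D t := by
  simp [altSum]

theorem altSum_insert (D : M →ₗ[A] N) {s : Finset ι} {a : ι} (ha : a ∉ s) (b : ι → B) (t : M) :
    altSum D (insert a s) b t = altSum (commutator A B M N D (b a)) s b t := by
  rw [altSum, altSum, Finset.sum_powerset_insert ha, ← Finset.sum_add_distrib]
  refine Finset.sum_congr rfl fun H hH => ?_
  have hHs : H ⊆ s := Finset.mem_powerset.1 hH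
  have haH : a ∉ H := fun h => ha (hHs h)
  have h1 : insert a s \ H = insert a (s \ H) := Finset.insert_sdiff_of_notMem _ haH
  have h2 : insert a s \ insert a H = s \ H := by
    ext x; simp only [Finset.mem_sdiff, Finset.mem_insert]; grind
  rw [h1, h2, Finset.card_insert_of_notMem haH, Finset.prod_insert haH,
    Finset.prod_insert (by simp [ha]), comm_apply, pow_succ, mul_smul (b a) _ t, mul_comm (b a),
    mul_smul, mul_smul, neg_one_smul, smul_sub, smul_sub, smul_neg]
  abel

theorem altSum_congr (D : M →ₗ[A] N) (s : Finset ι) {b b' : ι → B} (t : M)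
    (h : ∀ i ∈ s, b i = b' i) : altSum D s b t = altSum D s b' t := by
  refine Finset.sum_congr rfl fun H hH => ?_
  rw [Finset.prod_congr rfl fun i hi => h i (Finset.mem_powerset.1 hH hi),
    Finset.prod_congr rfl fun i hi => h i (Finset.mem_sdiff.1 hi).1]

theorem diffOp_iff_altSum {n : ℕ} (s : Finset ι) (hs : s.card = n + 1) (D : M →ₗ[A] N) :
    IsDiffOpLE A B M N n D ↔ ∀ (b : ι → B) (t : M), altSum D s b t = 0 := by
  induction n generalizing D s with
  | zero =>
    obtain ⟨a, rfl⟩ := Finset.card_eq_one.1 hs
    have e : ∀ (b : ι → B) (t : M), altSum D {a} b t = commutator A B M N D (b a) t := by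
      intro b t
      rw [← insert_empty_eq a, altSum_insert D (Finset.notMem_empty a), altSum_empty]
    rw [diffOp_zero_iff]
    exact ⟨fun h b t => by rw [e, h]; rfl,
      fun h c => LinearMap.ext fun t => by
        have := h (fun _ => c) t
        rwa [e] at this⟩
  | succ n ih =>
    obtain ⟨a, s, ha, rfl, hcard⟩ := Finset.card_eq_succ.1 hs
    constructor
    · intro h b t
      rw [altSum_insert D ha]
      exact (ih s hcard _).1 (h (b a)) b t
    · intro h c
      refine (ih s hcard _).2 fun b t => ?_
      have := h (Function.update b a c) t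
      rw [altSum_insert D ha, Function.update_self] at this
      rw [← this]
      exact altSum_congr _ s t fun i hi =>
        (Function.update_of_ne (fun e : i = a => ha (e ▸ hi)) _ _).symm

theorem diffOp_iff_sum_fin {n : ℕ} (D : M →ₗ[A] N) :
    IsDiffOpLE A B M N n D ↔ ∀ (b : Fin (n + 1) → B) (t : M),
      ∑ H : Finset (Fin (n + 1)),
        ((-1 : ℤ) ^ H.card) • ((∏ i ∈ H, b i) • D ((∏ i ∈ Hᶜ, b i) • t)) = 0 := by
  rw [diffOp_iff_altSum (Finset.univ : Finset (Fin (n + 1))) (by simp) D]
  simp only [altSum, Finset.powerset_univ, ← Finset.compl_eq_univ_sdiff]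

end AltSum

/-! ### Linearisation and powers of the diagonal ideal -/

section Diag

variable {N' : Type u} [AddCommGroup N'] [Module A N'] [Module B N'] [IsScalarTower A B N']

@[simp]
theorem linearize_tmul (D : M →ₗ[A] N) (c : B) (m : M) :
    linearize A B M N D (c ⊗ₜ[A] m) = c • D m := rfl

theorem linearize_mul_delta (D : B →ₗ[A] N') (b : B) (x : B ⊗[A] B) :
    linearize A B B N' D (x * ((1 : B) ⊗ₜ[A] b - b ⊗ₜ[A] (1 : B))) =
      linearize A B B N' (commutator A B B N' D b) x := by
  induction x using TensorProduct.induction_on with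
  | zero => simp
  | tmul c m =>
    simp [mul_sub, Algebra.TensorProduct.tmul_mul_tmul, smul_sub, mul_smul, mul_comm b m]
  | add x y hx hy => simp [add_mul, hx, hy]

theorem linearize_vanish_succ_iff (k : ℕ) (D : B →ₗ[A] N') :
    (∀ x ∈ (KaehlerDifferential.ideal A B) ^ (k + 1), linearize A B B N' D x = 0) ↔
      ∀ b : B, ∀ x ∈ (KaehlerDifferential.ideal A B) ^ k,
        linearize A B B N' (commutator A B B N' D b) x = 0 := by
  constructor
  · intro h b x hx
    rw [← linearize_mul_delta]
    refine h _ ?_
    rw [pow_succ]
    exact Ideal.mul_mem_mul hx (KaehlerDifferential.one_smul_sub_smul_one_mem_ideal A b)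
  · intro h x hx
    rw [pow_succ] at hx
    refine Submodule.mul_induction_on hx (fun y hy i hi => ?_) fun y z hy hz => by
      rw [map_add, hy, hz, add_zero]
    rw [← KaehlerDifferential.span_range_eq_ideal] at hi
    have : ∀ r : B ⊗[A] B, linearize A B B N' D (y * r * i) = 0 := by
      induction hi using Submodule.span_induction with
      | mem w hw =>
        obtain ⟨b, rfl⟩ := hw
        intro r
        rw [linearize_mul_delta]
        exact h b _ (Ideal.mul_mem_right _ _ hy)
      | zero => intro r; simp
      | add a c _ _ ha hc => intro r; rw [mul_add, map_add, ha, hc, add_zero]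
      | smul a c _ hc =>
        intro r
        rw [smul_eq_mul, ← mul_assoc, mul_assoc y r a]
        exact hc _
    simpa using this 1

theorem diffOp_iff_linearize_vanish (n : ℕ) (D : B →ₗ[A] N') :
    IsDiffOpLE A B B N' n D ↔
      ∀ x ∈ (KaehlerDifferential.ideal A B) ^ (n + 1), linearize A B B N' D x = 0 := by
  induction n generalizing D with
  | zero =>
    rw [diffOp_zero_iff, linearize_vanish_succ_iff]
    refine forall_congr' fun b => ?_
    constructor
    · intro h x _
      rw [h]
      induction x using TensorProduct.induction_on with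
      | zero => simp
      | tmul c m => simp
      | add x y hx hy => simp [hx, hy]
    · intro h
      ext m
      have := h ((1 : B) ⊗ₜ[A] m) (by simp)
      simpa using this
  | succ n ih =>
    rw [linearize_vanish_succ_iff]
    exact forall_congr' fun b => ih _

end Diag

end Groth.Agent.H06DiffOp
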