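import Groth.Agent.H06DiffOp.Basic
import Mathlib.RingTheory.Etale.Basic
import Mathlib.RingTheory.Kaehler.Polynomial
import Mathlib.RingTheory.Kaehler.JacobiZariski
import Mathlib.RingTheory.MvPolynomial.Ideal

/-! Divided power differential operators attached to formal étale coordinates. -/

set_option autoImplicit false
set_option linter.unusedSectionVars false

namespace Groth.Agent.H06DiffOp

open Diff16 MvPolynomial
open scoped TensorProduct

universe u

variable {A B : Type u} [CommRing A] [CommRing B] [Algebra A B] {n : ℕ} (z : Fin n → B)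

/-- Coordinates whose differentials form a basis make the algebra formally étale over the
polynomial ring. -/
theorem formallyEtale_of_basis [Algebra.FormallySmooth A B]
    [Algebra (MvPolynomial (Fin n) A) B] [IsScalarTower A (MvPolynomial (Fin n) A) B]
    (hz : ∀ i, algebraMap (MvPolynomial (Fin n) A) B (X i) = z i)
    (b : Module.Basis (Fin n) B (KaehlerDifferential A B))
    (hb : ∀ i, b i = KaehlerDifferential.D A B (z i)) :
    Algebra.FormallyEtale (MvPolynomial (Fin n) A) B := by
  let P := MvPolynomial (Fin n) A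
  let bP : Module.Basis (Fin n) B (B ⊗[P] KaehlerDifferential A P) :=
    (KaehlerDifferential.mvPolynomialBasis A (Fin n)).baseChange B
  have hbij : Function.Bijective (KaehlerDifferential.mapBaseChange A P B) := by
    have he : KaehlerDifferential.mapBaseChange A P B = (bP.equiv b (Equiv.refl _)).toLinearMap := by
      refine bP.ext fun i => ?_
      rw [LinearEquiv.coe_coe, Module.Basis.equiv_apply, Equiv.refl_apply, hb]
      simp [bP, P, hz, Module.Basis.baseChange_apply,
        KaehlerDifferential.mvPolynomialBasis_apply, KaehlerDifferential.mapBaseChange_tmul]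
    rw [he]
    exact LinearEquiv.bijective _
  refine ⟨⟨fun x y => ?_⟩, ⟨fun x y => ?_⟩⟩
  · have h0 : ∀ x : KaehlerDifferential P B, x = 0 := by
      intro x
      obtain ⟨w, rfl⟩ := KaehlerDifferential.map_surjective A P B x
      obtain ⟨v, rfl⟩ := hbij.2 w
      exact (KaehlerDifferential.exact_mapBaseChange_map A P B).apply_apply_eq_zero v
    rw [h0 x, h0 y]
  · have h0 : ∀ x : Algebra.H1Cotangent P B, x = 0 := by
      intro x
      have : Algebra.H1Cotangent.δ A P B x = 0 := hbij.1 (by
        rw [(Algebra.H1Cotangent.exact_δ_mapBaseChange A P B).apply_apply_eq_zero, map_zero])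
      obtain ⟨w, rfl⟩ := (Algebra.H1Cotangent.exact_map_δ A P B x).1 this
      rw [Subsingleton.elim w 0, map_zero]
    rw [h0 x, h0 y]

/-- The truncated polynomial ring in `n` variables over `B`. -/
abbrev Trunc (B : Type u) [CommRing B] (n m : ℕ) : Type u :=
  MvPolynomial (Fin n) B ⧸ idealOfVars (Fin n) B ^ (m + 1)

/-- Evaluation at zero on the truncated polynomial ring. -/
noncomputable def truncEval (B : Type u) [CommRing B] (n m : ℕ) : Trunc B n m →ₐ[B] B :=
  Ideal.Quotient.liftₐ _ (aeval (fun _ : Fin n => (0 : B))) fun f hf => by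
    have h0 : coeff 0 f = 0 :=
      (mem_pow_idealOfVars_iff' _ f).1 hf 0 (by simp)
    rw [show (fun _ : Fin n => (0 : B)) = 0 from rfl, aeval_zero]
    simpa [constantCoeff_eq] using h0

theorem truncEval_ker_le (B : Type u) [CommRing B] (n m : ℕ) :
    RingHom.ker (truncEval B n m) ≤
      (idealOfVars (Fin n) B).map (Ideal.Quotient.mk (idealOfVars (Fin n) B ^ (m + 1))) := by
  intro x hx
  obtain ⟨f, rfl⟩ := Ideal.Quotient.mk_surjective x
  refine Ideal.mem_map_of_mem _ ?_
  have h0 : coeff 0 f = 0 := by
    have : aeval (fun _ : Fin n => (0 : B)) f = 0 := hx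
    rw [show (fun _ : Fin n => (0 : B)) = 0 from rfl, aeval_zero] at this
    simpa [constantCoeff_eq] using this
  rw [← pow_one (idealOfVars (Fin n) B), mem_pow_idealOfVars_iff']
  intro d hd
  have : d = 0 := (Finsupp.degree_eq_zero_iff d).1 (by omega)
  rw [this, h0]

theorem truncEval_ker_pow (B : Type u) [CommRing B] (n m : ℕ) :
    RingHom.ker (truncEval B n m) ^ (m + 1) = ⊥ := by
  refine eq_bot_iff.2 ((Ideal.pow_right_mono (truncEval_ker_le B n m) _).trans ?_)
  rw [← Ideal.map_pow, Ideal.map_quotient_self]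

/-- Nilpotent lifting along formally étale coordinates. -/
theorem exists_lift_coordinates [Algebra.FormallySmooth A B]
    (b : Module.Basis (Fin n) B (KaehlerDifferential A B))
    (hb : ∀ i, b i = KaehlerDifferential.D A B (z i))
    {Q : Type u} [CommRing Q] [Algebra A Q] (ε : Q →ₐ[A] B) (hε : Function.Surjective ε)
    (hnil : IsNilpotent (RingHom.ker (ε : Q →+* B))) (w : Fin n → Q) (hw : ∀ i, ε (w i) = z i) :
    ∃ φ : B →ₐ[A] Q, (∀ x, ε (φ x) = x) ∧ ∀ i, φ (z i) = w i := by
  let α : MvPolynomial (Fin n) A →ₐ[A] B := aeval z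
  letI : Algebra (MvPolynomial (Fin n) A) B := α.toRingHom.toAlgebra
  haveI : IsScalarTower A (MvPolynomial (Fin n) A) B :=
    IsScalarTower.of_algebraMap_eq fun a => (α.commutes a).symm
  haveI : Algebra.FormallyEtale (MvPolynomial (Fin n) A) B :=
    formallyEtale_of_basis z (fun i => aeval_X z i) b hb
  let β : MvPolynomial (Fin n) A →ₐ[A] Q := aeval w
  letI : Algebra (MvPolynomial (Fin n) A) Q := β.toRingHom.toAlgebra
  haveI : IsScalarTower A (MvPolynomial (Fin n) A) Q :=
    IsScalarTower.of_algebraMap_eq fun a => (β.commutes a).symm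
  have hεα : ε.comp β = α := by
    ext i
    simp [β, α, hw]
  let ε' : Q →ₐ[MvPolynomial (Fin n) A] B :=
    { ε.toRingHom with commutes' := fun r => AlgHom.congr_fun hεα r }
  let φ := Algebra.FormallySmooth.liftOfSurjective
    (AlgHom.id (MvPolynomial (Fin n) A) B) ε' hε hnil
  refine ⟨φ.restrictScalars A, fun x =>
    Algebra.FormallySmooth.liftOfSurjective_apply (AlgHom.id (MvPolynomial (Fin n) A) B) ε' hε hnil x,
    fun i => ?_⟩
  have h := φ.commutes (X i)
  change φ (aeval z (X i)) = aeval w (X i) at h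
  rwa [aeval_X, aeval_X] at h

/-- Taylor expansion: an `A`-algebra section of evaluation with prescribed values on coordinates. -/
theorem exists_taylor [Algebra.FormallySmooth A B]
    (b : Module.Basis (Fin n) B (KaehlerDifferential A B))
    (hb : ∀ i, b i = KaehlerDifferential.D A B (z i)) (m : ℕ) :
    ∃ φ : B →ₐ[A] Trunc B n m, (∀ x, truncEval B n m (φ x) = x) ∧
      ∀ i, φ (z i) = Ideal.Quotient.mk _ (C (z i) + X i) := by
  refine exists_lift_coordinates z b hb ((truncEval B n m).restrictScalars A)
    (fun x => ⟨Ideal.Quotient.mk _ (C x), by simp [truncEval]⟩)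
    ⟨m + 1, truncEval_ker_pow B n m⟩
    (fun i => Ideal.Quotient.mk _ (C (z i) + X i)) fun i => ?_
  simp [truncEval]

/-- The coefficient functional on the truncated polynomial ring. -/
noncomputable def truncCoeff (B : Type u) [CommRing B] {n m : ℕ} (d : Fin n →₀ ℕ)
    (hd : d.degree ≤ m) : Trunc B n m →ₗ[B] B :=
  (Submodule.restrictScalars B (idealOfVars (Fin n) B ^ (m + 1))).liftQ (lcoeff B d) (fun f hf => by
      rw [LinearMap.mem_ker, lcoeff_apply]
      exact (mem_pow_idealOfVars_iff' _ f).1 hf d (by omega)) ∘ₗ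
    (Submodule.Quotient.restrictScalarsEquiv B (idealOfVars (Fin n) B ^ (m + 1))).symm.toLinearMap

theorem truncCoeff_mk (B : Type u) [CommRing B] {n m : ℕ} (d : Fin n →₀ ℕ)
    (hd : d.degree ≤ m) (f : MvPolynomial (Fin n) B) :
    truncCoeff B d hd (Ideal.Quotient.mk _ f) = coeff d f := rfl

theorem coeff_prod_C_add_X (p q : Fin n → ℕ) :
    coeff (Finsupp.equivFunOnFinite.symm p) (∏ i, (C (z i) + X i) ^ q i) =
      ((∏ i, Nat.choose (q i) (p i) : ℕ) : B) * ∏ i, z i ^ (q i - p i) := by
  classical
  have expand : ∀ i, (C (z i) + X i : MvPolynomial (Fin n) B) ^ q i =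
      ∑ k ∈ Finset.range (q i + 1),
        monomial (Finsupp.single i k) (((q i).choose k : B) * z i ^ (q i - k)) := by
    intro i
    rw [add_comm, add_pow]
    refine Finset.sum_congr rfl fun k _ => ?_
    rw [← C_pow, ← map_natCast (C : B →+* MvPolynomial (Fin n) B), X_pow_eq_monomial,
      mul_assoc, ← C_mul, mul_comm (monomial _ (1 : B)), C_mul_monomial, mul_one, mul_comm]
  simp only [expand, Finset.prod_univ_sum, ← monomial_sum_prod, coeff_sum, coeff_monomial]
  have key : ∀ f : Fin n → ℕ, (∑ i, Finsupp.single i (f i) = Finsupp.equivFunOnFinite.symm p) ↔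
      f = p := by
    intro f
    rw [← Finsupp.equivFunOnFinite.symm.apply_eq_iff_eq]
    refine iff_of_eq (congrArg (· = _) (Finsupp.ext fun i => ?_))
    simp [Finsupp.finsetSum_apply, Finsupp.single_apply]
  simp only [key, Finset.sum_ite_eq', Fintype.mem_piFinset, Finset.mem_range]
  rw [Nat.cast_prod, ← Finset.prod_mul_distrib]
  split_ifs with h
  · rfl
  · push Not at h
    obtain ⟨i, hi⟩ := h
    symm
    refine Finset.prod_eq_zero (Finset.mem_univ i) ?_
    rw [Nat.choose_eq_zero_of_lt (by omega)]; simp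

theorem exists_dividedPower [Algebra.FormallySmooth A B]
    (b : Module.Basis (Fin n) B (KaehlerDifferential A B))
    (hb : ∀ i, b i = KaehlerDifferential.D A B (z i)) (p : Fin n → ℕ) :
    ∃ D : B →ₗ[A] B, IsDiffOpLE A B B B (∑ i, p i) D ∧
      ∀ q : Fin n → ℕ, D (∏ i, z i ^ q i) =
        ((∏ i, Nat.choose (q i) (p i) : ℕ) : B) * ∏ i, z i ^ (q i - p i) := by
  obtain ⟨φ, hε, hφz⟩ := exists_taylor z b hb (∑ i, p i)
  have hd : (Finsupp.equivFunOnFinite.symm p).degree ≤ ∑ i, p i :=
    le_of_eq (by simp [Finsupp.degree_eq_sum])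
  let c : Trunc B n (∑ i, p i) →ₗ[B] B :=
    truncCoeff B (Finsupp.equivFunOnFinite.symm p) hd
  refine ⟨(c.restrictScalars A) ∘ₗ φ.toLinearMap, ?_, fun q => ?_⟩
  · rw [diffOp_iff_linearize_vanish]
    let Φ : B ⊗[A] B →ₐ[A] Trunc B n (∑ i, p i) :=
      Algebra.TensorProduct.lift (IsScalarTower.toAlgHom A B _) φ fun _ _ => Commute.all _ _
    have hL : ∀ x, linearize A B B B ((c.restrictScalars A) ∘ₗ φ.toLinearMap) x = c (Φ x) := by
      intro x
      induction x using TensorProduct.induction_on with
      | zero => simp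
      | tmul a m => simp [Φ, ← Algebra.smul_def]
      | add x y hx hy => simp [hx, hy]
    intro x hx
    have hI : KaehlerDifferential.ideal A B ≤
        Ideal.comap Φ (RingHom.ker (truncEval B n (∑ i, p i))) := by
      rw [← KaehlerDifferential.span_range_eq_ideal, Ideal.span_le]
      rintro _ ⟨s, rfl⟩
      simp [Φ, hε, RingHom.mem_ker]
    have h1 : Φ x ∈ RingHom.ker (truncEval B n (∑ i, p i)) ^ (∑ i, p i + 1) :=
      (Ideal.le_comap_pow _ _) (Ideal.pow_right_mono hI _ hx)
    rw [truncEval_ker_pow] at h1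
    rw [hL, (Submodule.mem_bot _).1 h1, map_zero]
  · simp only [LinearMap.comp_apply, AlgHom.toLinearMap_apply, map_prod, map_pow, hφz,
      LinearMap.coe_restrictScalars]
    rw [← coeff_prod_C_add_X z p q, ← truncCoeff_mk B _ hd]
    simp [c]

/-- The diagonal ideal is generated by the coordinates modulo every power of itself. -/
theorem ideal_le_span_sup_pow (b : Module.Basis (Fin n) B (KaehlerDifferential A B))
    (hb : ∀ i, b i = KaehlerDifferential.D A B (z i)) (j : ℕ) :
    KaehlerDifferential.ideal A B ≤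
      Ideal.span (Set.range fun i => (1 : B) ⊗ₜ[A] z i - z i ⊗ₜ[A] (1 : B)) ⊔
        KaehlerDifferential.ideal A B ^ (j + 1) := by
  set S := Ideal.span (Set.range fun i => (1 : B) ⊗ₜ[A] z i - z i ⊗ₜ[A] (1 : B))
  set I := KaehlerDifferential.ideal A B
  have h1 : I ≤ S ⊔ I ^ 2 := by
    intro x hx
    let v : ∀ i, I := fun i =>
      ⟨_, KaehlerDifferential.one_smul_sub_smul_one_mem_ideal A (z i)⟩
    let w : KaehlerDifferential A B := I.toCotangent ⟨x, hx⟩
    let y : I := ∑ i, ((b.repr w i) ⊗ₜ[A] (1 : B)) • v i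
    have hy : I.toCotangent y = I.toCotangent ⟨x, hx⟩ := by
      conv_rhs => rw [show I.toCotangent ⟨x, hx⟩ = w from rfl, ← b.sum_repr w]
      simp only [y, map_sum, map_smul]
      refine Finset.sum_congr rfl fun i _ => ?_
      rw [hb, KaehlerDifferential.D_apply]
      exact algebraMap_smul (B ⊗[A] B) (b.repr w i) (I.toCotangent (v i))
    rw [Ideal.toCotangent_eq] at hy
    have hy' : (y : B ⊗[A] B) ∈ S := by
      simp only [y, Submodule.coe_sum, Submodule.coe_smul, smul_eq_mul]
      exact sum_mem fun i _ => Ideal.mul_mem_left _ _ (Ideal.subset_span ⟨i, rfl⟩)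
    have : x = (y : B ⊗[A] B) - ((y : B ⊗[A] B) - x) := by ring
    rw [this]
    exact sub_mem (Ideal.mem_sup_left hy') (Ideal.mem_sup_right hy)
  induction j with
  | zero => rw [zero_add, pow_one]; exact le_sup_right
  | succ j ih =>
    refine h1.trans (sup_le le_sup_left ?_)
    calc I ^ 2 = I * I := sq I
      _ ≤ I * (S ⊔ I ^ (j + 1)) := Ideal.mul_mono_right ih
      _ ≤ S ⊔ I ^ (j + 1 + 1) := by
        rw [Ideal.mul_sup, pow_succ' I (j + 1)]
        exact sup_le_sup_right Ideal.mul_le_right _

/-- A differential operator vanishing on all monomials in the coordinates is zero. -/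
theorem diffOp_eq_zero_of_monomials (b : Module.Basis (Fin n) B (KaehlerDifferential A B))
    (hb : ∀ i, b i = KaehlerDifferential.D A B (z i)) {m : ℕ} (D : B →ₗ[A] B)
    (hD : IsDiffOpLE A B B B m D) (h : ∀ q : Fin n → ℕ, D (∏ i, z i ^ q i) = 0) : D = 0 := by
  classical
  induction m generalizing D with
  | zero =>
    ext x
    have h1 : D 1 = 0 := by simpa using h 0
    have := hD x 1
    simpa [h1] using this
  | succ m ih =>
    have hc : ∀ i, commutator A B B B D (z i) = 0 := by
      intro i
      refine ih _ (hD (z i)) fun q => ?_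
      have he : z i * ∏ j, z j ^ q j = ∏ j, z j ^ (q + (Pi.single i 1 : Fin n → ℕ)) j := by
        simp only [Pi.add_apply, pow_add, Finset.prod_mul_distrib]
        rw [mul_comm, Finset.prod_eq_single i (f := fun j => z j ^ (Pi.single i 1 : Fin n → ℕ) j)]
        · simp
        · intro j _ hj; simp [hj]
        · simp
      rw [comm_apply, smul_eq_mul, he, h, h, smul_zero, sub_zero]
    have hv : ∀ x ∈ KaehlerDifferential.ideal A B, linearize A B B B D x = 0 := by
      intro x hx
      obtain ⟨s, hs, t, ht, rfl⟩ := Submodule.mem_sup.1 (ideal_le_span_sup_pow z b hb (m + 1) hx)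
      rw [map_add, (diffOp_iff_linearize_vanish (m + 1) D).1 hD t ht, add_zero]
      obtain ⟨c, rfl⟩ := Ideal.mem_span_range_iff_exists_fun.1 hs
      rw [map_sum]
      refine Finset.sum_eq_zero fun i _ => ?_
      rw [linearize_mul_delta, hc]
      generalize c i = w
      induction w using TensorProduct.induction_on with
      | zero => simp
      | tmul a m => simp
      | add x y hx hy => simp [hx, hy]
    have h0 : IsDiffOpLE A B B B 0 D :=
      (diffOp_iff_linearize_vanish 0 D).2 fun x hx => hv x (by simpa using hx)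
    ext x
    have h1 : D 1 = 0 := by simpa using h 0
    have := h0 x 1
    simpa [h1] using this

end Groth.Agent.H06DiffOp
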