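import Mathlib
import Groth.Prelude.Def_PP16

/-! Basic finiteness of rings of principal parts. -/

universe u

set_option linter.style.haveILetI false

open scoped TensorProduct

namespace Groth.Agent.H06DiffOp

variable (n : ℕ) (A B : Type u) [CommRing A] [CommRing B] [Algebra A B]

theorem mk_tmul_eq_smul_dn (b c : B) :
    (Ideal.Quotient.mk _ (b ⊗ₜ[A] c) : PP16.P n A B) = b • PP16.dn n A B c := by
  rw [Algebra.smul_def]
  change _ = Ideal.Quotient.mk _ (b ⊗ₜ[A] (1 : B)) * Ideal.Quotient.mk _ ((1 : B) ⊗ₜ[A] c)
  rw [← map_mul, Algebra.TensorProduct.tmul_mul_tmul, mul_one, one_mul]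

theorem span_range_dn : Submodule.span B (Set.range (PP16.dn n A B)) = ⊤ := by
  refine Submodule.eq_top_iff'.mpr fun z => ?_
  obtain ⟨z, rfl⟩ := Ideal.Quotient.mk_surjective z
  induction z using TensorProduct.induction_on with
  | zero => simp
  | tmul b c =>
    rw [mk_tmul_eq_smul_dn]
    exact Submodule.smul_mem _ _ (Submodule.subset_span ⟨c, rfl⟩)
  | add x y hx hy => rw [map_add]; exact add_mem hx hy

theorem isIntegral_dn (b : B) : IsIntegral B (PP16.dn n A B b) := by
  refine ⟨(Polynomial.X - Polynomial.C b) ^ (n + 1), (Polynomial.monic_X_sub_C b).pow _, ?_⟩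
  rw [Polynomial.eval₂_pow, Polynomial.eval₂_sub, Polynomial.eval₂_X, Polynomial.eval₂_C]
  change ((Ideal.Quotient.mk _ ((1 : B) ⊗ₜ[A] b)) - Ideal.Quotient.mk _ (b ⊗ₜ[A] (1 : B))) ^ (n + 1) = 0
  rw [← map_sub, ← map_pow, Ideal.Quotient.eq_zero_iff_mem]
  exact Ideal.pow_mem_pow (KaehlerDifferential.one_smul_sub_smul_one_mem_ideal A b) _

theorem finite_P [Algebra.FiniteType A B] : Module.Finite B (PP16.P n A B) := by
  have hint : Algebra.IsIntegral B (PP16.P n A B) := by
    refine ⟨fun z => ?_⟩
    obtain ⟨z, rfl⟩ := Ideal.Quotient.mk_surjective z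
    induction z using TensorProduct.induction_on with
    | zero => simpa using isIntegral_zero
    | tmul b c =>
      rw [mk_tmul_eq_smul_dn]
      exact (isIntegral_dn n A B c).smul b
    | add x y hx hy => rw [map_add]; exact hx.add hy
  haveI : Algebra.FiniteType B (PP16.P n A B) :=
    Algebra.FiniteType.trans (R := B) (S := B ⊗[A] B) inferInstance inferInstance
  exact Algebra.IsIntegral.finite

theorem finitePresentation_P [Algebra.FinitePresentation A B] :
    Module.FinitePresentation B (PP16.P n A B) := by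
  haveI := finite_P n A B
  haveI : Algebra.FinitePresentation B (PP16.P n A B) :=
    Algebra.FinitePresentation.quotient (R := B)
      ((KaehlerDifferential.ideal_fg A B).pow)
  exact Module.FinitePresentation.of_finite_of_finitePresentation B (PP16.P n A B)

end Groth.Agent.H06DiffOp
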